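import Groth.Agent.AlgStLib.DiagCover
import Groth.Agent.AlgStLib.RepDiag
import Groth.Agent.AlgStLib.Diag
import Groth.Agent.AlgSpLib.LocalSourceInst

/-!
# Stacks with an etale atlas have unramified diagonal
-/

set_option autoImplicit false
set_option backward.isDefEq.respectTransparency false
set_option backward.isDefEq.respectTransparency.types false

universe u

open CategoryTheory CategoryTheory.Limits AlgebraicGeometry AlgSp
open Groth.Agent.FibBase Groth.Agent.AlgStLib Groth.Agent.AlgSpLib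

namespace Groth.Agent.TrivStab

variable {S : Scheme.{u}} {𝒳 𝒴 : AlgSt.Cat S}

/-- An etale atlas makes the diagonal over the base unramified. -/
theorem isDMOver_of_isDM {K : Precoverage Scheme.{u}} (h : AlgSt.IsDM K 𝒳) :
    AlgSt.RepByAlgSpWith unr (FibCat.diag (FibCat.toSelf 𝒳)) := by
  obtain ⟨h𝒳, U, x, hx, hxs⟩ := h
  have hxe := repByAlgSpWith_locP_etale hx
  have h1 := repByAlgSpWith_mono (Q := LocP @Flat)
    (fun _ _ _ h => locP_mono (P := @Etale) (fun _ _ f (_ : Etale f) => inferInstanceAs (Flat f)) h) hxe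
  have h2 := repByAlgSpWith_mono (Q := LocP @LocallyOfFinitePresentation)
    (fun _ _ _ h => locP_mono (P := @Etale)
      (fun _ _ f (_ : Etale f) => inferInstanceAs (LocallyOfFinitePresentation f)) h) hxe
  have h3 := repByAlgSpWith_mono (Q := unr)
    (fun _ _ _ h => locP_mono (P := @Etale) (fun _ _ f (_ : Etale f) =>
      (⟨inferInstance, inferInstance⟩ : LocallyOfFiniteType f ∧ FormallyUnramified f)) h) hxe
  exact repByAlgSpWith_diag_toSelf_of_cover stableBC_locP isLocalOnBase_unr cancels_unr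
    (repByAlgSp1_toSelf_of_repByAlgSp (repByAlgSp_overCat U)) h𝒳.diag h3 (locEssSurj_of_repByAlgSp h1 h2 hxs)

/-- The diagonal of a functor between stacks is unramified when that of its source is. -/
theorem diag_unr_of_toSelf (h : AlgSt.RepByAlgSpWith unr (FibCat.diag (FibCat.toSelf 𝒳)))
    (h' : AlgSt.RepByAlgSp1 (FibCat.diag (FibCat.toSelf 𝒴))) (g : 𝒳 ⥤ᵇ 𝒴) :
    AlgSt.RepByAlgSpWith unr (FibCat.diag g) := by
  have key : ∀ {τ : 𝒳 ⥤ᵇ FibCat.selfOver (Over S)}, BasedFunctor.comp g (FibCat.toSelf 𝒴) = τ →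
      AlgSt.RepByAlgSpWith unr (FibCat.diag τ) → AlgSt.RepByAlgSpWith unr (FibCat.diag g) := by
    rintro τ rfl hτ
    exact repByAlgSpWith_diag_of_comp stableBC_locP cancels_unr (repByAlgSp1_iff_top.1 h') hτ
  exact key (comp_toSelf g) h

end Groth.Agent.TrivStab
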