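import Groth.Agent.AlgStLib.SepDiag
import Groth.Agent.AlgStLib.Imm
import Groth.Agent.AlgStLib.GerbEquiv
import Groth.Agent.FibBase.Inertia
import Groth.Agent.S10262

/-!
# An open neutral section through all points is everything
-/

set_option autoImplicit false
set_option backward.isDefEq.respectTransparency false
set_option backward.isDefEq.respectTransparency.types false

universe u

open CategoryTheory CategoryTheory.Functor CategoryTheory.Limits AlgebraicGeometry Opposite AlgSp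
open Groth.Agent.FibBase Groth.Agent.AlgStLib Groth.Agent.AlgSpLib Groth.Agent.AlgStLib.GerbEq

namespace Groth.Agent.TrivStab

variable {S : Scheme.{u}} {𝒳 𝒴 : AlgSt.Cat S}

/-- The neutral section of a functor with unramified diagonal is an open immersion. -/
theorem isOpenImm_inertiaNeutral {f : 𝒳 ⥤ᵇ 𝒴} (h : AlgSt.RepByAlgSpWith unr (FibCat.diag f)) :
    AlgSt.IsOpenImm (FibCat.inertiaNeutral f) :=
  (repByAlgSpWith_inertiaNeutral_iff f).2
    (repByAlgSpWith_diag_of_repByAlgSp1 stableBC_of (repByAlgSp1_of_repByAlgSpWith h) fun a hF y e he ha => by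
      subst ha
      exact (S10262.result (X := ⟨_, hF⟩) (Y := ⟨_, IsAlgSpace.yon_obj _⟩) (ObjectProperty.homMk _)).1
        ((show RepOver unr (FibCat.fpFst y (FibCat.diag f)) from h _ y).property_of_stableBC stableBC_locP e he).2)

/-- An automorphism trivial at all points is trivial when the neutral section is open. -/
theorem eq_id_of_isOpenImm (h𝒳 : FibCat.IsFibGrpd 𝒳.p) (h𝒴 : FibCat.IsFibGrpd 𝒴.p) {g : 𝒳 ⥤ᵇ 𝒴}
    (hn : AlgSt.IsOpenImm (FibCat.inertiaNeutral g)) {ξ : 𝒳.obj} (α : ξ ≅ ξ)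
    (hα : 𝒳.p.IsHomLift (𝟙 (𝒳.p.obj ξ)) α.hom) (hg : g.map α.hom = 𝟙 (g.obj ξ))
    (hpts : ∀ t : ↥(𝒳.p.obj ξ).left, ∃ (K : Type u) (_ : Field K) (s : Spec (CommRingCat.of K) ⟶ S)
      (f : Over.mk s ⟶ 𝒳.p.obj ξ) (ξ' : 𝒳.obj) (φ : ξ' ⟶ ξ),
      t ∈ Set.range f.left ∧ 𝒳.p.IsHomLift f φ ∧ φ ≫ α.hom = φ) :
    α.hom = 𝟙 ξ := by
  let n := FibCat.inertiaNeutral g
  let η : (FibCat.inertia g).obj := ⟨ξ, α, hg⟩
  have hI : FibCat.IsFibGrpd (FibCat.inertia g).p := inertia_isFibGrpd h𝒳 h𝒴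
  obtain ⟨y, e, he⟩ := exists_overCat_obj hI (U := 𝒳.p.obj ξ) η rfl
  obtain ⟨F, E, hE, hP⟩ := hn (𝒳.p.obj ξ) y
  let a := AlgSt.spMapOfOver (BasedFunctor.comp E (FibCat.fpFst y n))
  obtain ⟨R, j, k, sq⟩ := hP.rep (𝟙 ((yon S).obj (𝒳.p.obj ξ)))
  have : IsIso k := sq.isIso_fst_of_isIso
  have : IsOpenImmersion j.left := hP.2 _ _ _ sq
  have hsurj : Function.Surjective j.left := fun t => by
    obtain ⟨K, _, s, f, ξ', φ, ⟨t₀, ht₀⟩, hf, hφ⟩ := hpts t
    let ψ : (⟨ξ', Iso.refl ξ', g.map_id ξ'⟩ : (FibCat.inertia g).obj) ⟶ η :=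
      ⟨φ, (Category.id_comp φ).trans hφ.symm⟩
    have hψ : (FibCat.inertia g).p.IsHomLift f ψ :=
      inertia_isHomLift f ψ (h := hf)
    have : (FibCat.inertia g).p.IsHomLift (Over.mk f).hom ψ := hψ
    obtain ⟨i, hi, -⟩ := exists_point_of_hom hI y e he (x := n.obj ξ') (Over.mk f) ψ
    let o : (FibCat.fp y n).obj := ⟨⟨Over.mk f, ξ', i⟩, hi⟩
    obtain ⟨z, c, hc⟩ := exists_iso_over_of_isEquivOver hE o (S := Over.mk s) rfl
    have hz : z.base = Over.mk s :=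
      (E.w_obj z).symm.trans (IsHomLift.domain_eq (FibCat.fp y n).p (𝟙 (Over.mk s)) c.hom)
    obtain ⟨x, rfl⟩ : ∃ x : F.obj.obj.obj (op (Over.mk s)), z = ⟨Over.mk s, x⟩ := by
      obtain ⟨b, x⟩ := z
      subst hz
      exact ⟨x, rfl⟩
    have hcomp : (FibCat.overCat (𝒳.p.obj ξ) : AlgSt.Cat S).p.IsHomLift (𝟙 (Over.mk s))
        ((FibCat.fpFst y n).map c.hom) := (FibCat.fpFst y n).preserves_isHomLift (𝟙 (Over.mk s)) c.hom
    have hsec : AlgSt.secHom (BasedFunctor.comp E (FibCat.fpFst y n)) ⟨Over.mk s, x⟩ = f :=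
      (secHom_eq_of_lift (BasedFunctor.comp E (FibCat.fpFst y n)) ((FibCat.fpFst y n).map c.hom) hcomp).trans
        (Category.id_comp f)
    obtain ⟨r, hr⟩ := (ConcreteCategory.bijective_of_isIso (k.hom.app (op (Over.mk s)))).2 x
    have hrf : r.down ≫ j = f := by
      have h1 := congrArg (fun m => m.hom.app (op (Over.mk s)) r) sq.w
      have h2 : a.hom.app (op (Over.mk s)) x = ⟨f⟩ := congrArg ULift.up hsec
      rw [show ((k ≫ _).hom.app (op (Over.mk s))) r = a.hom.app (op (Over.mk s)) (k.hom.app (op (Over.mk s)) r) from rfl,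
        hr, h2] at h1
      exact (congrArg ULift.down h1).symm
    exact ⟨r.down.left t₀, by rw [← Scheme.Hom.comp_apply, ← Over.comp_left, hrf]; exact ht₀⟩
  have : Surjective j.left := ⟨hsurj⟩
  have : Epi j.left.base := (TopCat.epi_iff_surjective _).2 hsurj
  have : IsIso j.left := IsOpenImmersion.isIso j.left
  have : IsIso ((Over.forget S).map j) := inferInstanceAs (IsIso j.left)
  have : IsIso j := isIso_of_reflects_iso j (Over.forget S)
  let r₀ : ((yon S).obj R).obj.obj (op (𝒳.p.obj ξ)) := ⟨inv j⟩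
  let x₀ := k.hom.app (op (𝒳.p.obj ξ)) r₀
  have hx₀ : AlgSt.secHom (BasedFunctor.comp E (FibCat.fpFst y n)) ⟨𝒳.p.obj ξ, x₀⟩ = 𝟙 _ := by
    have h1 := congrArg (fun m => m.hom.app (op (𝒳.p.obj ξ)) r₀) sq.w
    exact (congrArg ULift.down h1).trans (IsIso.inv_hom_id j)
  let o₀ := E.obj ⟨𝒳.p.obj ξ, x₀⟩
  have ho : o₀.obj.fst = Over.mk (𝟙 (𝒳.p.obj ξ)) :=
    (overMk_secHom (BasedFunctor.comp E (FibCat.fpFst y n)) ⟨𝒳.p.obj ξ, x₀⟩).symm.trans (congrArg Over.mk hx₀)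
  let ι : n.obj o₀.obj.snd ≅ η := o₀.obj.iso.symm ≪≫ eqToIso (congrArg y.obj ho) ≪≫ e
  have h := ι.hom.comm
  have h' : ι.hom.hom = ι.hom.hom ≫ α.hom := (Category.id_comp _).symm.trans h
  have : IsIso ι.hom.hom := inferInstanceAs (IsIso ((FibCat.inertiaToBase g).toFunctor.map ι.hom))
  rw [← cancel_epi ι.hom.hom, ← h', Category.comp_id]

end Groth.Agent.TrivStab
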