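import Groth.Agent.TrivStab.Neutral
import Groth.Agent.AlgStLib.SelfProd
import Groth.Agent.AlgStLib.DiagLFT
import Groth.Agent.GrpSchLib.UnramifiedFibre
import Groth.Prelude.Def_StGerb

/-!
# Trivial stabilisers at field valued points make the inertia unramified
-/

set_option autoImplicit false
set_option backward.isDefEq.respectTransparency false
set_option linter.style.haveILetI false
set_option backward.isDefEq.respectTransparency.types false

universe u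

open CategoryTheory CategoryTheory.Functor CategoryTheory.Limits AlgebraicGeometry Opposite AlgSp
open Groth.Agent.FibBase Groth.Agent.AlgStLib Groth.Agent.AlgSpLib Groth.Agent.AlgStLib.GerbEq

namespace Groth.Agent.TrivStab

variable {S : Scheme.{u}} {𝒳 𝒴 : AlgSt.Cat S}

/-- A vertical endomorphism of an object with trivial automorphism group is the identity. -/
theorem eq_id_of_subsingleton (h𝒳 : FibCat.IsFibGrpd 𝒳.p) {z : 𝒳.obj} [Subsingleton (Gerb.AutO z)]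
    (a : z ⟶ z) (ha : 𝒳.p.IsHomLift (𝟙 (𝒳.p.obj z)) a) : a = 𝟙 z := by
  haveI := isIso_of_lift (p := 𝒳.p) (hp := h𝒳) (𝟙 (𝒳.p.obj z)) a
  let α : Gerb.AutO z := fiberIsoMk (a := Gerb.fib z) (b := Gerb.fib z) (asIso a) ha
  have h : α = Iso.refl _ := Subsingleton.elim _ _
  exact congrArg (fun β : Gerb.AutO z => β.hom.1) h

/-- Sections of the inertia over one point with trivial automorphisms agree. -/
theorem sec_unique {g : 𝒳 ⥤ᵇ 𝒴} {U : Over S} {y : FibCat.overCat U ⥤ᵇ 𝒳} {F : Sp S}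
    {E : AlgSt.ofSp F ⥤ᵇ FibCat.fp y (FibCat.inertiaToBase g)} (hE : FibCat.IsEquivOver E)
    {T : Over S} (f : T ⟶ U)
    (htriv : ∀ a : y.obj (Over.mk f) ⟶ y.obj (Over.mk f),
      𝒳.p.IsHomLift (𝟙 (𝒳.p.obj (y.obj (Over.mk f)))) a → a = 𝟙 _)
    (x x' : F.obj.obj (op T))
    (hx : AlgSt.secHom (BasedFunctor.comp E (FibCat.fpFst y (FibCat.inertiaToBase g))) ⟨T, x⟩ = f)
    (hx' : AlgSt.secHom (BasedFunctor.comp E (FibCat.fpFst y (FibCat.inertiaToBase g))) ⟨T, x'⟩ = f) :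
    x = x' := by
  let ι := FibCat.inertiaToBase g
  let o := E.obj ⟨T, x⟩
  let o' := E.obj ⟨T, x'⟩
  have ho : o.obj.fst = Over.mk f :=
    (overMk_secHom (BasedFunctor.comp E (FibCat.fpFst y ι)) ⟨T, x⟩).symm.trans (congrArg Over.mk hx)
  have ho' : o'.obj.fst = Over.mk f :=
    (overMk_secHom (BasedFunctor.comp E (FibCat.fpFst y ι)) ⟨T, x'⟩).symm.trans (congrArg Over.mk hx')
  have key : ∀ (p : (FibCat.fp y ι).obj) (hp : p.obj.fst = Over.mk f), p.obj.snd.aut.hom = 𝟙 _ := by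
    intro p hp
    let c : y.obj (Over.mk f) ≅ p.obj.snd.pt := eqToIso (congrArg y.obj hp.symm) ≪≫ p.obj.iso
    have hc : 𝒳.p.IsHomLift (𝟙 T) c.hom := by
      have h1 : 𝒳.p.IsHomLift (𝟙 p.obj.fst.left) p.obj.iso.hom := fp_iso_lift p
      have h2 : p.obj.fst.left = T := congrArg (fun a : Over U => a.left) hp
      have h3 := isHomLift_id_congr h2 h1
      have h4 : 𝒳.p.IsHomLift (𝟙 T) (eqToHom (congrArg y.obj hp.symm)) :=
        IsHomLift.eqToHom_domain_lift_id (congrArg y.obj hp.symm) (y.w_obj (Over.mk f))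
      show 𝒳.p.IsHomLift (𝟙 T) (eqToHom (congrArg y.obj hp.symm) ≫ p.obj.iso.hom)
      infer_instance
    have hT : 𝒳.p.obj p.obj.snd.pt = T := IsHomLift.codomain_eq 𝒳.p (𝟙 T) c.hom
    haveI := isHomLift_id_congr hT (aut_isHomLift p.obj.snd)
    haveI := IsHomLift.lift_id_inv 𝒳.p T c
    have hcc : 𝒳.p.IsHomLift (𝟙 T) (c.hom ≫ p.obj.snd.aut.hom ≫ c.inv) := inferInstance
    have h := htriv (c.hom ≫ p.obj.snd.aut.hom ≫ c.inv)
      (isHomLift_id_congr (y.w_obj (Over.mk f)).symm hcc)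
    rw [← cancel_epi c.hom, ← cancel_mono c.inv, Category.assoc, h]
    simp
  let φ₁ : o.obj.fst ⟶ o'.obj.fst := eqToHom (ho.trans ho'.symm)
  let m : o.obj.snd.pt ⟶ o'.obj.snd.pt := o.obj.iso.inv ≫ y.map φ₁ ≫ o'.obj.iso.hom
  let μ : o.obj.snd ⟶ o'.obj.snd := ⟨m, by rw [key o ho, key o' ho', Category.id_comp, Category.comp_id]⟩
  let w : o ⟶ o' := ObjectProperty.homMk ⟨φ₁, μ, by
    show y.map φ₁ ≫ o'.obj.iso.hom = o.obj.iso.hom ≫ o.obj.iso.inv ≫ y.map φ₁ ≫ o'.obj.iso.hom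
    rw [Iso.hom_inv_id_assoc]⟩
  haveI := full_of_isEquivOver hE
  obtain ⟨ψ, hψ⟩ := E.toFunctor.map_surjective w
  have hw : (FibCat.fp y ι).p.IsHomLift (𝟙 T) w := by
    refine fp_isHomLift (F := y) (G := ι) (𝟙 T) w (h := ?_)
    have h2 : o.obj.fst.left = T := congrArg (fun a : Over U => a.left) ho
    exact IsHomLift.eqToHom_domain_lift_id (p := (FibCat.overCat U : AlgSt.Cat S).p) (ho.trans ho'.symm) h2
  have hl : (AlgSt.ofSp F).p.IsHomLift (𝟙 T) ψ :=
    (E.isHomLift_iff _ ψ).1 ((congrArg (fun q => (FibCat.fp y ι).p.IsHomLift (𝟙 T) q) hψ).mpr hw)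
  have hb : ψ.hom = 𝟙 T := by
    have h := map_eq_of_isHomLift_id hl
    exact h.trans (eqToHom_refl _ _)
  have h := ψ.map_sec
  rw [hb] at h
  simpa using h.symm

/-- Trivial automorphisms of field valued points give unramified inertia. -/
theorem unr_inertiaToBase (h𝒳 : FibCat.IsFibGrpd 𝒳.p) {g : 𝒳 ⥤ᵇ 𝒴}
    (hl : AlgSt.RepByAlgSpWith (LocP @LocallyOfFiniteType) (FibCat.inertiaToBase g))
    (h : ∀ (k : Type u) [Field k] (sk : Spec (CommRingCat.of k) ⟶ S)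
      (x : FibCat.overCat (Over.mk sk) ⥤ᵇ 𝒳) (T : Over (Over.mk sk)), Subsingleton (Gerb.AutO (x.obj T))) :
    AlgSt.RepByAlgSpWith unr (FibCat.inertiaToBase g) := by
  intro U y
  obtain ⟨F, E, hE, hla⟩ := hl U y
  refine ⟨F, E, hE, ?_⟩
  let ι := FibCat.inertiaToBase g
  let Φ := BasedFunctor.comp E (FibCat.fpFst y ι)
  let a := AlgSt.spMapOfOver Φ
  intro A B c b φ hc hb w
  have hA : LocallyOfFiniteType φ.left := hla c b φ hc hb w
  refine ⟨hA, ?_⟩
  obtain ⟨b₀, rfl⟩ := (yon S).map_surjective b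
  have : Etale b₀.left := (repWith_yon_map_iff _ _).1 hb
  have w' : c ≫ a = (yon S).map (φ ≫ b₀) := by rw [Functor.map_comp]; exact w
  let ψ := φ ≫ b₀
  haveI : LocallyOfFiniteType ψ.left := inferInstanceAs (LocallyOfFiniteType (φ.left ≫ b₀.left))
  suffices FormallyUnramified ψ.left by
    haveI : FormallyUnramified (φ.left ≫ b₀.left) := this
    exact FormallyUnramified.of_comp φ.left b₀.left
  refine GrpSchLib.formallyUnramified_of_fibres ψ.left fun t => ?_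
  let κ : Type u := U.left.residueField t
  let T₀ : Over S := Over.mk (U.left.fromSpecResidueField t ≫ U.hom)
  let i₀ : T₀ ⟶ U := Over.homMk (U.left.fromSpecResidueField t)
  have htriv : ∀ {T : Over S} (q : T ⟶ T₀) (m : y.obj (Over.mk (q ≫ i₀)) ⟶ y.obj (Over.mk (q ≫ i₀))),
      𝒳.p.IsHomLift (𝟙 (𝒳.p.obj (y.obj (Over.mk (q ≫ i₀))))) m → m = 𝟙 _ := fun q m hm => by
    haveI : Subsingleton (Gerb.AutO (y.obj (Over.mk (q ≫ i₀)))) :=
      h κ _ (BasedFunctor.comp (AlgSt.overMap i₀) y) (Over.mk q)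
    exact eq_id_of_subsingleton h𝒳 m hm
  -- the neutral point
  let η₀ : (FibCat.inertia g).obj := (FibCat.inertiaNeutral g).obj (y.obj (Over.mk i₀))
  let o : (FibCat.fp y ι).obj := ⟨⟨Over.mk i₀, η₀, Iso.refl _⟩, IsHomLift.id (y.w_obj _)⟩
  obtain ⟨z, e, he⟩ := exists_iso_over_of_isEquivOver hE o (S := T₀) rfl
  have hz : z.base = T₀ :=
    (E.w_obj z).symm.trans (IsHomLift.domain_eq (FibCat.fp y ι).p (𝟙 T₀) e.hom)
  obtain ⟨x₀, rfl⟩ : ∃ x₀ : F.obj.obj.obj (op T₀), z = ⟨T₀, x₀⟩ := by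
    obtain ⟨b, x⟩ := z
    subst hz
    exact ⟨x, rfl⟩
  have hcomp : (FibCat.overCat U : AlgSt.Cat S).p.IsHomLift (𝟙 T₀) ((FibCat.fpFst y ι).map e.hom) :=
    (FibCat.fpFst y ι).preserves_isHomLift (𝟙 T₀) e.hom
  have hx₀ : AlgSt.secHom Φ ⟨T₀, x₀⟩ = i₀ :=
    (secHom_eq_of_lift Φ ((FibCat.fpFst y ι).map e.hom) hcomp).trans (Category.id_comp i₀)
  obtain ⟨σ, hσ⟩ : ∃ σ : (yon S).obj T₀ ⟶ F.obj, σ.hom.app (op T₀) ⟨𝟙 T₀⟩ = x₀ :=
    ⟨(J S).uliftYonedaEquiv.{u + 1}.symm x₀, (J S).uliftYonedaEquiv.{u + 1}.apply_symm_apply x₀⟩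
  have hσa : σ ≫ a = (yon S).map i₀ := by
    refine (J S).uliftYonedaEquiv.{u + 1}.injective ?_
    change (σ ≫ a).hom.app (op T₀) ⟨𝟙 T₀⟩ = ((yon S).map i₀).hom.app (op T₀) ⟨𝟙 T₀⟩
    rw [show (σ ≫ a).hom.app (op T₀) ⟨𝟙 T₀⟩ = a.hom.app (op T₀) (σ.hom.app (op T₀) ⟨𝟙 T₀⟩) from rfl, hσ]
    exact (congrArg ULift.up hx₀).trans (congrArg ULift.up (Category.id_comp i₀).symm)
  -- the fibre is etale over the residue field
  let p := hc.rep.snd σ
  let r := hc.rep.fst' σ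
  have sq : IsPullback ((yon S).map r) ((yon S).map p) c σ := hc.rep.isPullback' σ
  haveI : Etale p.left := hc.property_snd σ
  have hrp : r ≫ ψ = p ≫ i₀ := (yon S).map_injective (by
    rw [CategoryTheory.Functor.map_comp (yon S) r ψ, CategoryTheory.Functor.map_comp (yon S) p i₀, ← w', ← Category.assoc, sq.w, Category.assoc, hσa])
  let Q : Over S := pullback ψ i₀
  let π₁ : Q ⟶ A := pullback.fst ψ i₀
  let π₂ : Q ⟶ T₀ := pullback.snd ψ i₀
  let θ : hc.rep.pullback σ ⟶ Q := pullback.lift r p hrp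
  have hQ : (yon S).map π₁ ≫ c = (yon S).map π₂ ≫ σ := by
    refine (J S).uliftYonedaEquiv.{u + 1}.injective (sec_unique hE (π₂ ≫ i₀) (htriv π₂) _ _ ?_ ?_)
    · have h1 : (yon S).map π₁ ≫ c ≫ a = (yon S).map (π₂ ≫ i₀) := by
        rw [w', ← Functor.map_comp, pullback.condition]
      have h2 := congrArg (fun m => (m.hom.app (op Q) ⟨𝟙 Q⟩).down) h1
      exact h2.trans (show 𝟙 Q ≫ (π₂ ≫ i₀) = π₂ ≫ i₀ from Category.id_comp _)
    · have h1 : (yon S).map π₂ ≫ σ ≫ a = (yon S).map (π₂ ≫ i₀) := by rw [hσa, ← Functor.map_comp]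
      have h2 := congrArg (fun m => (m.hom.app (op Q) ⟨𝟙 Q⟩).down) h1
      exact h2.trans (show 𝟙 Q ≫ (π₂ ≫ i₀) = π₂ ≫ i₀ from Category.id_comp _)
  let θ' : Q ⟶ hc.rep.pullback σ := (yon S).preimage (sq.lift ((yon S).map π₁) ((yon S).map π₂) hQ)
  have hθ' : θ' ≫ p = π₂ := (yon S).map_injective (by
    rw [Functor.map_comp, Functor.map_preimage, sq.lift_snd])
  have hθ'r : θ' ≫ r = π₁ := (yon S).map_injective (by
    rw [Functor.map_comp, Functor.map_preimage, sq.lift_fst])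
  haveI : IsIso θ' := by
    refine ⟨θ, ?_, ?_⟩
    · apply pullback.hom_ext <;> simp [θ, Category.assoc, hθ', hθ'r, π₁, π₂]
    · refine (yon S).map_injective (sq.hom_ext ?_ ?_)
      · rw [← Functor.map_comp, Category.assoc, hθ'r, pullback.lift_fst, CategoryTheory.Functor.map_id, Category.id_comp]
      · rw [← Functor.map_comp, Category.assoc, hθ', pullback.lift_snd, CategoryTheory.Functor.map_id, Category.id_comp]
  haveI : IsIso θ'.left := (Over.forget S).map_isIso θ'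
  haveI : Etale π₂.left := by
    rw [← hθ']
    exact inferInstanceAs (Etale (θ'.left ≫ p.left))
  have sq' : IsPullback π₁.left π₂.left ψ.left i₀.left := (IsPullback.of_hasPullback ψ i₀).map (Over.forget S)
  have he' : ψ.left.fiberToSpecResidueField t = sq'.isoPullback.inv ≫ π₂.left :=
    sq'.isoPullback_inv_snd.symm
  rw [he']
  infer_instance

end Groth.Agent.TrivStab
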